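import Cfsg.Agent.H469.S8.J3Out
import Cfsg.Agent.H547.SelfCent.He
import Cfsg.Agent.CpAutHe.Cnt
import Cfsg.Agent.S2075
import Cfsg.Agent.H997.OutHe2
import Cfsg.Agent.H704.S8.Defs3

/-!
# S4908, `He`, the piece OUT (helper687)

* `not_inv` : a character of `He` of degree `≡ ± 8 (mod 17)` is not invariant under all automorphisms (the automorphism
  `rho` maps an element of order 17 to a conjugate of its cube, and 3 is a primitive root modulo 17);
* `out_he` : `charDegrees X ≠ charDegrees (MulAut X)` for `X ≃ He` (a degree `± 8` modulo 17 is not a degree of `Aut X`).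
-/

set_option autoImplicit false
set_option maxRecDepth 100000

namespace Cfsg.Agent.H687.S8.HeOut

open Cfsg Cfsg.Spor Cfsg.Spor.He Subgroup
open Cfsg.Agent.SporadicB.HePerm Cfsg.Agent.FixBN.HeStab Cfsg.Agent.KFacts.He.Lv Cfsg.Agent.CpAutHe.Cnt
open Cfsg.Agent.H997.OutHe (rho sw rho_gn)
open Cfsg.Agent.Characters.Core
open Cfsg.Agent.H704.S8 (OutB OutRow' OutRow3)
open Cfsg.Agent.M23Order.Base

universe v

/-- the automorphism on words -/
theorem rho_wd (w : List Gen) : rho (wd w) = wd (w.map sw) := by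
  induction w with
  | nil =>
    have h : wd ([] : List Gen) = 1 := rfl
    rw [List.map_nil, h, map_one]
  | cons x w ih =>
    have h1 : wd (x :: w) = gn x * wd w := rfl
    rw [h1, map_mul, rho_gn, ih]
    rfl

/-- the word of order 17 -/
abbrev X : List Gen := H547.SelfCent.HeRow.X

/-- a conjugating word -/
def U : List Gen := [.b, .c, .e, .d, .f, .g, .d, .c, .b, .d, .c, .d, .g, .d, .c, .d, .b, .c, .d, .g, .c, .d, .c, .b]

theorem chkU : chkB (U ++ pw X 3) (X.map sw ++ U) = true := by decide +kernel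

theorem rho_x : wd U * wd X ^ 3 * (wd U)⁻¹ = rho (wd X) := by
  have h := eq_of_chkB chkU
  rw [wd_append, wd_append, wd_pw, ← rho_wd] at h
  rw [h, mul_inv_cancel_right]

theorem card_he : Nat.card He = 4030387200 := Cfsg.Agent.S1695.result.2

/-- **no character of degree `≡ ± 8 (mod 17)` is invariant** -/
theorem not_inv [Finite He] (θ : IrrCharacter He) (hθ : dg θ % 17 = 8 ∨ dg θ % 17 = 9)
    (hinv : ∀ (b : MulAut He) (s : He), (θ : He → ℂ) (b s) = (θ : He → ℂ) s) : False := by
  have hcard := card_he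
  have f17 : Fact (Nat.Prime 17) := ⟨by norm_num⟩
  obtain ⟨Q, hQ, ⟨E⟩⟩ := H417.BlockCount.exists_SC (G := He) 17 (by norm_num) (by rw [hcard]; norm_num)
    (by rw [hcard]; norm_num) (fun y hy => H547.SelfCent.HeRow.he ⟨MulEquiv.refl _⟩ hcard hy) (e := 8) (t := 2)
    (by rw [hcard]) (by norm_num)
  have hX : θ ∈ E.X := by
    by_contra h1
    by_cases h2 : θ ∈ E.NE
    · have := H417.BlockCount.mod_NE' E (by norm_num) h2
      omega
    · have := H417.BlockCount.mod_out' E h2 h1
      omega
  let _ : Fintype (Q : Subgroup He) := Fintype.ofFinite _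
  have hsum := E.sum_X hX
  have hcl : ∀ a b : He, IsConj a b → (θ : He → ℂ) a = (θ : He → ℂ) b := by
    intro a b hab
    obtain ⟨c, rfl⟩ := isConj_iff.1 hab
    exact (hinv (MulAut.conj c) a).symm
  set x : He := wd X with hx
  have hxo : orderOf x = 17 := H547.SelfCent.HeRow.orderOf_x
  have hsq : ¬ 17 ^ 2 ∣ Nat.card He := by rw [hcard]; norm_num
  have hmod : ∀ i j : ℕ, i % 17 = j % 17 → x ^ i = x ^ j := by
    intro i j hij
    rw [← pow_mod_orderOf x i, ← pow_mod_orderOf x j, hxo, hij]
  -- one step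
  have hstep : ∀ i : ℕ, (θ : He → ℂ) (x ^ (i * 3)) = (θ : He → ℂ) (x ^ i) := by
    intro i
    have h1 : rho (x ^ i) = wd U * x ^ (i * 3) * (wd U)⁻¹ := by
      rw [map_pow, ← rho_x, mul_comm i 3, pow_mul, conj_pow]
    rw [← hinv rho (x ^ i), h1]
    exact hcl _ _ (isConj_iff.2 ⟨wd U, rfl⟩)
  have hpw : ∀ j : ℕ, (θ : He → ℂ) (x ^ (3 ^ j)) = (θ : He → ℂ) x := by
    intro j
    induction j with
    | zero => rw [pow_zero, pow_one]
    | succ j ih => rw [pow_succ, hstep, ih]
  have hall : ∀ i : ℕ, i % 17 ≠ 0 → (θ : He → ℂ) (x ^ i) = (θ : He → ℂ) x := by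
    intro i hi
    have key : ∀ i' ∈ Finset.range 17, i' ≠ 0 → ∃ j ∈ Finset.range 16, i' = 3 ^ j % 17 := by decide +kernel
    obtain ⟨j, -, hj⟩ := key (i % 17) (Finset.mem_range.2 (Nat.mod_lt _ (by norm_num))) hi
    rw [hmod i (3 ^ j) hj]
    exact hpw j
  have hconst : ∀ y : (Q : Subgroup He), y ≠ 1 → (θ : He → ℂ) y = (θ : He → ℂ) x := by
    intro y hy
    have hyo : orderOf (y : He) = 17 := by
      have h1 : orderOf y ∣ 17 := (orderOf_dvd_natCard y).trans hQ.dvd
      rcases (Nat.dvd_prime (by norm_num)).1 h1 with h2 | h2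
      · exact absurd (orderOf_eq_one_iff.1 h2) hy
      · rw [Subgroup.orderOf_coe]
        exact h2
    obtain ⟨c, k, hck⟩ := J3.Fix.exists_conj_pow (p := 17) (by norm_num) hsq hxo hyo
    have hk0 : k % 17 ≠ 0 := by
      intro h1
      have h2 : x ^ k = 1 := by rw [hmod k 0 (by simpa using h1), pow_zero]
      rw [h2, mul_one, mul_inv_cancel] at hck
      rw [hck, orderOf_one] at hyo
      norm_num at hyo
    rw [hck, ← hall k hk0]
    exact (hcl _ _ (isConj_iff.2 ⟨c, rfl⟩)).symm
  have h1 := Cfsg.Agent.SmallSimple.TheoremBCor.sum_const_off (Q := (Q : Subgroup He)) (f := fun y => (θ : He → ℂ) y)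
    (c := (θ : He → ℂ) x) hconst
  rw [hsum] at h1
  have h2 : (θ : He → ℂ) ((1 : (Q : Subgroup He)) : He) = dg θ := dg_eq θ
  obtain ⟨m, hm⟩ : ∃ m : ℤ, (θ : He → ℂ) x = m := by
    apply Cfsg.Agent.Characters.GaloisBasic.exists_int_of_rat (Cfsg.Agent.Characters.Core.isIrr_isCharacter θ.2)
    refine ⟨-(E.d : ℚ) / 2, ?_⟩
    have h3 : (16 : ℂ) * (θ : He → ℂ) x = -(E.d * 8) := by
      have h4 := h1
      simp only [OneMemClass.coe_one] at h4 h2
      rw [h2, hQ] at h4
      push_cast at h4
      linear_combination -h4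
    push_cast
    linear_combination h3 / 16
  have h3 : (16 : ℂ) * (m : ℂ) = -(E.d * 8) := by
    have h4 := h1
    simp only [OneMemClass.coe_one] at h4 h2
    rw [h2, hQ, hm] at h4
    push_cast at h4
    linear_combination -h4
  have h4 : (16 : ℤ) * m = -(E.d * 8) := by exact_mod_cast h3
  rcases E.d_mem with h5 | h5 <;> rw [h5] at h4 <;> omega

section He

theorem index_he {X : Type v} [Group X] (h : IsoHe X) : (MulAut.conj : X →* MulAut X).range.index = 2 := by
  obtain ⟨e⟩ := h
  rw [← H55.OutGen.card_out_eq_index, H55.OutGen.card_out_congr e]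
  exact S2075.result

theorem center_he [Finite He] : Subgroup.center He = ⊥ := by
  have hs := Cfsg.Agent.S1695.result.1
  have hn : (Subgroup.center He).Normal := inferInstance
  rcases hn.eq_bot_or_eq_top with h | h
  · exact h
  · exfalso
    have hcomm : ∀ a b : He, a * b = b * a := fun a b => by
      have : b ∈ Subgroup.center He := by rw [h]; trivial
      exact Subgroup.mem_center_iff.1 this a
    let _ : CommGroup He := { (inferInstance : Group He) with mul_comm := hcomm }
    have h1 : (Nat.card He).Prime := IsSimpleGroup.prime_card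
    rw [card_he] at h1
    norm_num at h1

/-- **a degree of `He` which is not a degree of `Aut He`** -/
theorem ne_model : charDegrees He ≠ charDegrees (MulAut He) := by
  classical
  intro heq
  have hcard := card_he
  have : Finite He := Nat.finite_of_card_ne_zero (by rw [hcard]; norm_num)
  have := finite_irr (G := He)
  let _ := Fintype.ofFinite (IrrCharacter He)
  have f17 : Fact (Nat.Prime 17) := ⟨by norm_num⟩
  obtain ⟨Q, hQ, ⟨E⟩⟩ := H417.BlockCount.exists_SC (G := He) 17 (by norm_num) (by rw [hcard]; norm_num)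
    (by rw [hcard]; norm_num) (fun y hy => H547.SelfCent.HeRow.he ⟨MulEquiv.refl _⟩ hcard hy) (e := 8) (t := 2)
    (by rw [hcard]) (by norm_num)
  obtain ⟨Θ, hΘ⟩ : E.X.Nonempty := by rw [← Finset.card_ne_zero, E.card_X]; norm_num
  have hmod := H417.BlockCount.mod_X' E (by norm_num) (by norm_num) hΘ
  have hdeg : ∀ f ∈ charDegrees He, f % 17 = 0 ∨ f % 17 = 1 ∨ f % 17 = 16 ∨ f % 17 = 8 ∨ f % 17 = 9 := by
    rintro f ⟨χ, rfl⟩
    have := H417.BlockCount.mod_cases E (by norm_num) (by norm_num) (by norm_num) χ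
    unfold dg at this
    omega
  have hmem : dg Θ ∈ charDegrees (MulAut He) := by
    rw [← heq]
    exact ⟨Θ, rfl⟩
  rcases H469.S8.deg_aut_inv center_he (index_he ⟨MulEquiv.refl _⟩) hmem with ⟨θ, h1, hinv⟩ | ⟨f, hf, h2⟩
  · refine not_inv θ ?_ hinv
    have h3 : dg θ = dg Θ := dg_of_eq h1
    rw [h3]
    omega
  · have := hdeg f hf
    omega

/-- **S4908, `He`, the field OUT** : the degree sets of `X` and `Aut X` are different -/
theorem ne_he {X : Type v} [Group X] (h : IsoHe X) : charDegrees X ≠ charDegrees (MulAut X) := by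
  obtain ⟨e⟩ := h
  rw [H424.DegTools.charDegrees_congr e, H424.DegTools.charDegrees_congr (MulAut.congr e)]
  exact ne_model

/-- **S4908, `He`, the field OUT** -/
theorem out_he {X : Type v} [Group X] (h : IsoHe X) : OutRow3 2 X :=
  ⟨(index_he h).le, fun _ => ne_he h⟩

end He

end Cfsg.Agent.H687.S8.HeOut
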